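import Cfsg.Agent.H491.Wf.Asm

/-!
# S3826: exceptional groups in their own characteristic three

`wf_F4`, `wf_E6`, `wf_E7`, `wf_E8`, `wf_2E6` : `WfRow 3 K`.
-/

set_option autoImplicit false

namespace Cfsg.Agent.H491.Wf.Rows

universe u

open Cfsg.Lie Cfsg.Agent.H533.Wf

theorem fact3 : Fact (Nat.Prime 3) := ⟨Nat.prime_three⟩

section Untw

variable (F : Type) [Field F] [Fintype F] [CharP F 3]

theorem wf_F4 : WfRow.{u, 0} 3 ↥(chevF4.group F) :=
  haveI := fact3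
  WfRow.of_wrow (Asm.wrow_F4 3 (by norm_num) F)

theorem wf_E6 : WfRow.{u, 0} 3 ↥(chevE6.group F) :=
  haveI := fact3
  WfRow.of_wrow (Asm.wrow_E6 3 (by norm_num) F)

theorem wf_E7 : WfRow.{u, 0} 3 ↥(chevE7.group F) :=
  haveI := fact3
  WfRow.of_wrow (Asm.wrow_E7 3 (by norm_num) F)

theorem wf_E8 : WfRow.{u, 0} 3 ↥(chevE8.group F) :=
  haveI := fact3
  WfRow.of_wrow (Asm.wrow_E8 3 (by norm_num) F)

end Untw

theorem wf_2E6 (K : Type) [Field K] [Fintype K] [CharP K 3] {q : ℕ} (hq : IsPrimePow q)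
    (hK : Fintype.card K = q ^ 2) : WfRow.{u, 0} 3 ↥(twistedE6 K q) :=
  haveI := fact3
  WfRow.of_wrow (Asm.wrow_2E6 3 (by norm_num) K hq hK)

end Cfsg.Agent.H491.Wf.Rows
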